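import Groth.Agent.AlgSpCov.EtaleSections
import Mathlib.RingTheory.Jacobson.Ring
import Mathlib.FieldTheory.Perfect

/-! In residue characteristic 0, étale points below every point of a smooth morphism. -/

universe u

open CategoryTheory AlgebraicGeometry
open scoped TensorProduct

namespace Groth.Agent.EtPoint

open AlgSpCov

set_option synthInstance.maxHeartbeats 200000 in
set_option maxHeartbeats 1000000 in
/-- A standard smooth algebra over a ring containing a field of characteristic zero has, below every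
prime `q`, an étale point hitting a specialisation of `q` in its fibre. -/
theorem exists_etale_point_ge {k₀ K R : Type u} [Field k₀] [CharZero k₀] [CommRing K] [CommRing R]
    (j : k₀ →+* K) (η : K →+* R) (hη : η.IsStandardSmooth) (q : PrimeSpectrum R) :
    ∃ (D : Type u) (_ : CommRing D) (ψ : K →+* D) (ρ : R →+* D), ψ.Etale ∧ ρ.comp η = ψ ∧
      ∃ d : PrimeSpectrum D, q ≤ PrimeSpectrum.comap ρ d ∧
        PrimeSpectrum.comap ψ d = PrimeSpectrum.comap η q := by
  classical
  algebraize [η]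
  let p : Ideal K := q.asIdeal.comap η
  let k := p.ResidueField
  haveI : CharZero k := charZero_of_injective_ringHom ((algebraMap K k).comp j).injective
  let L := SeparableClosure k
  let φk : k →+* q.asIdeal.ResidueField := Ideal.ResidueField.map p q.asIdeal η rfl
  let _ : Algebra k q.asIdeal.ResidueField := φk.toAlgebra
  haveI : IsScalarTower K k q.asIdeal.ResidueField := IsScalarTower.of_algebraMap_eq' <| by
    ext x
    rw [IsScalarTower.algebraMap_apply K R q.asIdeal.ResidueField]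
    exact (Ideal.ResidueField.map_algebraMap _ _ _ _ x).symm
  let Φ : k ⊗[K] R →ₐ[k] q.asIdeal.ResidueField :=
    Algebra.TensorProduct.lift (Algebra.ofId k _) (IsScalarTower.toAlgHom K R _) fun _ _ => .all _ _
  obtain ⟨M, hM, hle⟩ := (RingHom.ker Φ.toRingHom).exists_le_maximal (RingHom.ker_ne_top _)
  haveI : Algebra.IsStandardSmooth K R := by rwa [← RingHom.isStandardSmooth_algebraMap]
  letI := Ideal.Quotient.field M
  haveI : Algebra.FiniteType k ((k ⊗[K] R) ⧸ M) :=
    Algebra.FiniteType.of_surjective (Ideal.Quotient.mkₐ k M) Ideal.Quotient.mk_surjective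
  haveI : Module.Finite k ((k ⊗[K] R) ⧸ M) := finite_of_finite_type_of_isJacobsonRing k _
  haveI : Algebra.IsSeparable k ((k ⊗[K] R) ⧸ M) := inferInstance
  let i : (k ⊗[K] R) ⧸ M →ₐ[k] L := IsSepClosed.lift
  let φ : R →ₐ[K] L :=
    ((i.comp (Ideal.Quotient.mkₐ k M)).restrictScalars K).comp Algebra.TensorProduct.includeRight
  have hqφ : ∀ r ∈ q.asIdeal, φ r = 0 := fun r hr => by
    have h0 : (1 : k) ⊗ₜ[K] r ∈ M := hle (by
      rw [RingHom.mem_ker]
      change Φ ((1 : k) ⊗ₜ[K] r) = 0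
      rw [Algebra.TensorProduct.lift_tmul, map_one, one_mul]
      exact Ideal.algebraMap_residueField_eq_zero.2 hr)
    change i (Ideal.Quotient.mk M ((1 : k) ⊗ₜ[K] r)) = 0
    rw [Ideal.Quotient.eq_zero_iff_mem.2 h0, map_zero]
  obtain ⟨t, ht⟩ := (Algebra.FiniteType.out : (⊤ : Subalgebra K R).FG)
  obtain ⟨C, _, ψ, θ, hψ, hθψ, hT⟩ := exists_etale_fractions p (t.image φ)
  choose! e c he hc using hT
  let E := ∏ x ∈ t.image φ, e x
  have hE : θ E ≠ 0 := by
    rw [map_prod]
    exact Finset.prod_ne_zero_iff.2 fun x hx => he x hx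
  let C₁ := Localization.Away E
  let θ₁ : C₁ →+* L := IsLocalization.Away.lift (S := C₁) E (g := θ) (isUnit_iff_ne_zero.2 hE)
  have hθ₁ : ∀ x, θ₁ (algebraMap C C₁ x) = θ x := fun x => IsLocalization.Away.lift_eq E _ x
  let ψ₁ : K →+* C₁ := (algebraMap C C₁).comp ψ
  have hrange : ∀ r, φ r ∈ θ₁.range := by
    intro r
    have hr : r ∈ Algebra.adjoin K (t : Set R) := ht ▸ Algebra.mem_top
    induction hr using Algebra.adjoin_induction with
    | mem x hx =>
      have hx' : φ x ∈ t.image φ := Finset.mem_image_of_mem φ hx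
      obtain ⟨E', hE'⟩ := Finset.dvd_prod_of_mem e hx'
      obtain ⟨v, hv⟩ := IsLocalization.Away.algebraMap_isUnit (S := C₁) E
      refine ⟨algebraMap C C₁ (c (φ x) * E') * ↑v⁻¹, ?_⟩
      have h1 : θ₁ ↑v * θ₁ ↑v⁻¹ = 1 := by rw [← map_mul, Units.mul_inv, map_one]
      rw [map_mul, hθ₁, map_mul, ← hc _ hx', mul_assoc (φ x), ← map_mul, ← hE', ← hθ₁ E, ← hv, mul_assoc, h1,
        mul_one]
    | algebraMap x =>
      refine ⟨ψ₁ x, ?_⟩
      rw [AlgHom.commutes, ← hθψ]
      exact hθ₁ _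
    | add a b _ _ ha hb => rw [map_add]; exact add_mem ha hb
    | mul a b _ _ ha hb => rw [map_mul]; exact mul_mem ha hb
  let J : Ideal C₁ := RingHom.ker θ₁
  let qe := RingHom.quotientKerEquivRange θ₁
  let φJ : R →+* C₁ ⧸ J := qe.symm.toRingHom.comp (φ.toRingHom.codRestrict θ₁.range hrange)
  have hφJ : φJ.comp η = (Ideal.Quotient.mk J).comp ψ₁ := by
    ext x
    apply qe.injective
    change qe (qe.symm _) = qe _
    rw [RingEquiv.apply_symm_apply]
    apply Subtype.ext
    change φ (algebraMap K R x) = θ₁ (ψ₁ x)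
    rw [AlgHom.commutes, ← hθψ]
    exact (hθ₁ _).symm
  have hη' : η.IsStandardSmooth := by simpa [RingHom.algebraMap_toAlgebra] using hη
  obtain ⟨D, _, ψD, ρ, hψD, hρ, hbij, hcomp⟩ :=
    exists_etale_lift_of_standardSmooth η hη' ψ₁ J φJ hφJ
  refine ⟨D, inferInstance, ψD.comp ψ₁, ρ, ?_, hρ, ?_⟩
  · exact RingHom.Etale.stableUnderComposition ψ₁ ψD (RingHom.Etale.stableUnderComposition ψ (algebraMap C C₁) hψ
      (RingHom.etale_algebraMap.2 (Algebra.Etale.of_isLocalizationAway E))) hψD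
  · let qm := RingEquiv.ofBijective _ hbij
    let τ : D →+* L := (θ₁.range.subtype.comp qe.toRingHom).comp
      (qm.symm.toRingHom.comp (Ideal.Quotient.mk (J.map ψD)))
    have hτ : ∀ x, τ (ψD x) = θ₁ x := by
      intro x
      change ((qe (qm.symm (qm (Ideal.Quotient.mk J x)))) : L) = _
      rw [RingEquiv.symm_apply_apply]
      rfl
    have hτρ : ∀ r, τ (ρ r) = φ r := by
      intro r
      change ((qe (qm.symm ((Ideal.Quotient.mk (J.map ψD)) (ρ r)))) : L) = _
      rw [show (Ideal.Quotient.mk (J.map ψD)) (ρ r) = qm (φJ r) from congr($hcomp r),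
        RingEquiv.symm_apply_apply]
      change ((qe (qe.symm _)) : L) = _
      rw [RingEquiv.apply_symm_apply]
      rfl
    refine ⟨⟨RingHom.ker τ, RingHom.ker_isPrime τ⟩, fun r hr => (hτρ r).trans (hqφ r hr), ?_⟩
    ext x
    change τ (ψD (ψ₁ x)) = 0 ↔ η x ∈ q.asIdeal
    rw [hτ, show θ₁ (ψ₁ x) = algebraMap K L x from (hθ₁ _).trans congr($hθψ x),
      IsScalarTower.algebraMap_apply K k L, map_eq_zero, Ideal.algebraMap_residueField_eq_zero]
    rfl

/-- For a smooth morphism over a field of characteristic zero, every point has a specialisation in its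
fibre which is hit by a section over an étale neighbourhood. -/
theorem exists_etale_hit {k₀ : Type u} [Field k₀] [CharZero k₀] {X S : Scheme.{u}}
    (σ : S ⟶ Spec (CommRingCat.of k₀)) (f : X ⟶ S) [Smooth f] (x : X) :
    ∃ (U : Scheme.{u}) (g : U ⟶ S) (u : U) (h : U ⟶ X),
      Etale g ∧ h ≫ f = g ∧ x ⤳ h u ∧ g u = f x := by
  obtain ⟨W, hW, U, hU, hxU, hle, hstd⟩ := Smooth.exists_isStandardSmooth f x
  let j : k₀ →+* Γ(S, W) :=
    ((Scheme.ΓSpecIso (CommRingCat.of k₀)).inv ≫ σ.appTop ≫ S.presheaf.map (homOfLE le_top).op).hom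
  obtain ⟨D, _, ψ, ρ, hψ, hρ, d, hd1, hd2⟩ :=
    exists_etale_point_ge j (f.appLE W U hle).hom hstd (hU.primeIdealOf ⟨x, hxU⟩)
  have : Etale (Spec.map (CommRingCat.ofHom ψ)) := (HasRingHomProperty.Spec_iff (P := @Etale)).2 hψ
  let d' : ↥(Spec (CommRingCat.of D)) := d
  refine ⟨Spec (CommRingCat.of D), Spec.map (CommRingCat.ofHom ψ) ≫ hW.fromSpec, d',
    Spec.map (CommRingCat.ofHom ρ) ≫ hU.fromSpec, inferInstance, ?_, ?_, ?_⟩
  · rw [Category.assoc, ← IsAffineOpen.SpecMap_appLE_fromSpec f hW hU hle, ← Spec.map_comp_assoc]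
    congr 2
    exact CommRingCat.hom_ext hρ
  · have := ((PrimeSpectrum.le_iff_specializes _ _).1 hd1).map hU.fromSpec.continuous
    rw [hU.fromSpec_primeIdealOf ⟨x, hxU⟩] at this
    exact this
  · rw [Scheme.Hom.comp_apply]
    have h1 : Spec.map (CommRingCat.ofHom ψ) d' = Spec.map (f.appLE W U hle) (hU.primeIdealOf ⟨x, hxU⟩) := hd2
    rw [h1]
    exact (congr(($(IsAffineOpen.SpecMap_appLE_fromSpec f hW hU hle)) (hU.primeIdealOf ⟨x, hxU⟩))).trans
      (congrArg f (hU.fromSpec_primeIdealOf ⟨x, hxU⟩))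

end Groth.Agent.EtPoint
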